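/-
The six-dimensional module of `G₂(4)` and its place inside the exterior square: the tables.
-/
import Cfsg.Agent.Lib.Spor.Fi22.U6.Field
import Cfsg.Agent.Lib.Lie.Chev.GoodG2
import Cfsg.Agent.Lib.Lie.Chev.Api

set_option autoImplicit false
set_option maxRecDepth 100000

namespace CfsgLib.Char.GTwoFour

open Cfsg.Lie CfsgLib.Lie.Chev CfsgLib.Spor.Fi22.U6

/-- the pairs indexing the exterior square -/
def pairs : Fin 15 → Fin 6 × Fin 6 :=
  ![(0, 1), (0, 2), (0, 3), (0, 4), (0, 5), (1, 2), (1, 3), (1, 4), (1, 5), (2, 3), (2, 4), (2, 5), (3, 4), (3, 5), (4, 5)]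

/-- entries linear in the parameter -/
def linPart : Fin 12 → List (Fin 6 × Fin 6) :=
  ![[(0, 4), (1, 5)], [(0, 3), (2, 5)], [(1, 3), (2, 4)], [(0, 2), (3, 5)], [(0, 1), (4, 5)], [(1, 2), (3, 4)], [(2, 1), (4, 3)], [(1, 0), (5, 4)], [(2, 0), (5, 3)], [(3, 1), (4, 2)], [(3, 0), (5, 2)], [(4, 0), (5, 1)]]

/-- entries quadratic in the parameter -/
def quadPart : Fin 12 → List (Fin 6 × Fin 6) :=
  ![[], [], [(0, 5)], [(1, 4)], [(2, 3)], [], [], [(3, 2)], [(4, 1)], [(5, 0)], [], []]

/-- the root element on the six-dimensional module -/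
def x6 (r : Fin 12) (t : Four) : Matrix (Fin 6) (Fin 6) Four :=
  Matrix.of fun i j => if i = j then 1 else if (i, j) ∈ linPart r then t else
    if (i, j) ∈ quadPart r then t * t else 0

/-- exterior square of a matrix -/
def w2 {R : Type*} [CommRing R] (A : Matrix (Fin 6) (Fin 6) R) : Matrix (Fin 15) (Fin 15) R :=
  Matrix.of fun a b => A (pairs a).1 (pairs b).1 * A (pairs a).2 (pairs b).2 -
    A (pairs a).1 (pairs b).2 * A (pairs a).2 (pairs b).1

/-- row masks of the embedding of the adjoint module -/
def embRow : Fin 15 → ℕ := ![4, 8, 32, 64, 1, 16, 128, 3, 512, 2, 256, 1024, 2048, 4096, 8192]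

/-- embedding of the adjoint module -/
def emb : Matrix (Fin 15) chevG2.Idx Four :=
  Matrix.of fun a c => if (embRow a).testBit (pos chevG2 c) then 1 else 0

/-- the invariant vector -/
def wvec : Fin 15 → Four := fun a => if (656 : ℕ).testBit a.val then 1 else 0

/-- emb completed by the invariant vector -/
def full : Matrix (Fin 15) (Fin 15) Four :=
  Matrix.of fun a c => if c.val = 14 then wvec a else if (embRow a).testBit c.val then 1 else 0

/-- the inverse of `full` -/
def fullInvRow : Fin 15 → ℕ := ![640, 144, 1, 2, 32, 4, 8, 64, 1024, 256, 2048, 4096, 8192, 16384, 656]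

/-- the inverse of `full` -/
def fullInv : Matrix (Fin 15) (Fin 15) Four :=
  Matrix.of fun a c => if (fullInvRow a).testBit c.val then 1 else 0

theorem fullInv_mul : fullInv * full = 1 := by decide +kernel

/-- roots by number -/
def rG (r : Fin 12) : Fin chevG2.nroots := ⟨r.val, r.isLt⟩

/-- the intertwining of one root element -/
def RootOK (r : Fin 12) : Prop :=
  ∀ t : Four, w2 (x6 r t) * emb = emb * xg Four (rG r) t ∧
    (w2 (x6 r t)).mulVec wvec = wvec ∧ x6 r t * x6 r t = 1

instance rootOKDecidable (r : Fin 12) : Decidable (RootOK r) := by unfold RootOK; infer_instance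

theorem rootOK0 : RootOK 0 := by decide +kernel

theorem rootOK1 : RootOK 1 := by decide +kernel

theorem rootOK2 : RootOK 2 := by decide +kernel

theorem rootOK3 : RootOK 3 := by decide +kernel

theorem rootOK4 : RootOK 4 := by decide +kernel

theorem rootOK5 : RootOK 5 := by decide +kernel

theorem rootOK6 : RootOK 6 := by decide +kernel

theorem rootOK7 : RootOK 7 := by decide +kernel

theorem rootOK8 : RootOK 8 := by decide +kernel

theorem rootOK9 : RootOK 9 := by decide +kernel

theorem rootOK10 : RootOK 10 := by decide +kernel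

theorem rootOK11 : RootOK 11 := by decide +kernel


theorem rootOK_all : ∀ r, RootOK r := by
  intro r
  fin_cases r
  · exact rootOK0
  · exact rootOK1
  · exact rootOK2
  · exact rootOK3
  · exact rootOK4
  · exact rootOK5
  · exact rootOK6
  · exact rootOK7
  · exact rootOK8
  · exact rootOK9
  · exact rootOK10
  · exact rootOK11

/-- the product of root elements along a word -/
def wordMat (l : List (Fin 12 × Four)) : Matrix (Fin 6) (Fin 6) Four := (l.map fun p => x6 p.1 p.2).prod

/-- a word giving an element of order 6 -/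
def word6 : List (Fin 12 × Four) := [(5, Four.e), (7, Four.u), (6, Four.e)]

/-- a word giving an element of order 7 -/
def word7 : List (Fin 12 × Four) := [(4, Four.e), (7, Four.e), (5, Four.u), (6, Four.w)]

/-- a word giving an element of order 10 -/
def word10 : List (Fin 12 × Four) := [(7, Four.e), (5, Four.e), (4, Four.u)]

/-- a word giving an element of order 13 -/
def word13 : List (Fin 12 × Four) := [(5, Four.u), (7, Four.e), (4, Four.w), (6, Four.e)]

theorem word7_ok : wordMat word7 ^ 7 = 1 ∧
    (∑ i ∈ Finset.range 7, wordMat word7 ^ i) = 0 := by decide +kernel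

theorem word13_ok : wordMat word13 ^ 13 = 1 ∧
    (∑ i ∈ Finset.range 13, wordMat word13 ^ i) = 0 := by decide +kernel

theorem word6_ok : wordMat word6 ^ 6 = 1 ∧ wordMat word6 ^ 2 ≠ 1 ∧ wordMat word6 ^ 3 ≠ 1 := by decide +kernel

theorem word10_ok : wordMat word10 ^ 10 = 1 ∧ wordMat word10 ^ 2 ≠ 1 ∧ wordMat word10 ^ 5 ≠ 1 := by decide +kernel


end CfsgLib.Char.GTwoFour
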