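/-
`G₂(4)` on a six-dimensional module, and the prime graphs of the split extensions.
-/
import Cfsg.Agent.Lib.Char.GTwoFour.Data
import Cfsg.Agent.Lib.Lie.Chev.FieldMap
import Cfsg.Agent.S1059
import Mathlib.GroupTheory.Sylow
import Mathlib.GroupTheory.SemidirectProduct
import Mathlib.FieldTheory.Finite.GaloisField
import Mathlib.Tactic

set_option autoImplicit false

namespace CfsgLib.Char.GTwoFour

open Cfsg.Lie CfsgLib.Lie.Chev CfsgLib.Spor.Fi22.U6

theorem w2_mul (A B : Matrix (Fin 6) (Fin 6) Four) : w2 (A * B) = w2 A * w2 B := by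
  ext a b
  simp only [w2, Matrix.of_apply, Matrix.mul_apply]
  generalize (pairs a).1 = i
  generalize (pairs a).2 = j
  generalize (pairs b).1 = k
  generalize (pairs b).2 = l
  simp [pairs, Fin.sum_univ_succ]
  ring

theorem w2_one : w2 (1 : Matrix (Fin 6) (Fin 6) Four) = 1 := by decide +kernel

theorem pairs_surj : ∀ i j : Fin 6, i < j → ∃ a, pairs a = (i, j) := by decide

theorem four_sq : ∀ x : Four, x * x = 1 → x = 1 := by decide

theorem pos_cases : ∀ c : Fin 15, c.val = 14 ∨ ∃ c' : chevG2.Idx, pos chevG2 c' = c.val := by decide +kernel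

/-- A matrix acting trivially on the exterior square is trivial. -/
theorem eq_one_of_w2 {h h' : Matrix (Fin 6) (Fin 6) Four} (hinv : h * h' = 1) (hw : w2 h = 1) : h = 1 := by
  have hord : ∀ a b : Fin 15, h (pairs a).1 (pairs b).1 * h (pairs a).2 (pairs b).2 -
      h (pairs a).1 (pairs b).2 * h (pairs a).2 (pairs b).1 =
      (1 : Matrix (Fin 6) (Fin 6) Four) (pairs a).1 (pairs b).1 * (1 : Matrix (Fin 6) (Fin 6) Four) (pairs a).2 (pairs b).2 -
      (1 : Matrix (Fin 6) (Fin 6) Four) (pairs a).1 (pairs b).2 * (1 : Matrix (Fin 6) (Fin 6) Four) (pairs a).2 (pairs b).1 := fun a b =>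
    congrFun (congrFun (hw.trans w2_one.symm) a) b
  have hall : ∀ i j k l : Fin 6, h i k * h j l - h i l * h j k =
      (1 : Matrix (Fin 6) (Fin 6) Four) i k * (1 : Matrix (Fin 6) (Fin 6) Four) j l -
      (1 : Matrix (Fin 6) (Fin 6) Four) i l * (1 : Matrix (Fin 6) (Fin 6) Four) j k := by
    intro i j k l
    rcases lt_trichotomy i j with hij | rfl | hij
    · rcases lt_trichotomy k l with hkl | rfl | hkl
      · obtain ⟨a, ha⟩ := pairs_surj i j hij
        obtain ⟨b, hb⟩ := pairs_surj k l hkl
        have := hord a b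
        rw [ha, hb] at this
        exact this
      · ring
      · obtain ⟨a, ha⟩ := pairs_surj i j hij
        obtain ⟨b, hb⟩ := pairs_surj l k hkl
        have := hord a b
        rw [ha, hb] at this; dsimp only at this
        linear_combination -this
    · ring
    · rcases lt_trichotomy k l with hkl | rfl | hkl
      · obtain ⟨a, ha⟩ := pairs_surj j i hij
        obtain ⟨b, hb⟩ := pairs_surj k l hkl
        have := hord a b
        rw [ha, hb] at this; dsimp only at this
        linear_combination -this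
      · ring
      · obtain ⟨a, ha⟩ := pairs_surj j i hij
        obtain ⟨b, hb⟩ := pairs_surj l k hkl
        have := hord a b
        rw [ha, hb] at this; dsimp only at this
        linear_combination this
  have hoff : ∀ i k, i ≠ k → h i k = 0 := by
    intro i k hik
    obtain ⟨j, hji, hjk⟩ : ∃ j : Fin 6, j ≠ i ∧ j ≠ k := by
      revert i k; decide
    have h1 : ∑ l, (h i k * h j l - h i l * h j k) * h' l j = 0 := by
      refine Finset.sum_eq_zero fun l _ => ?_
      rw [hall, Matrix.one_apply_ne hik, Matrix.one_apply_ne hjk]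
      ring
    have h2 : ∀ a, ∑ l, h a l * h' l j = (1 : Matrix (Fin 6) (Fin 6) Four) a j := fun a => by
      rw [← hinv, Matrix.mul_apply]
    simp only [sub_mul, mul_assoc, Finset.sum_sub_distrib, ← Finset.mul_sum] at h1
    rw [h2] at h1
    simp only [mul_comm (h j k), ← mul_assoc, ← Finset.sum_mul] at h1
    rw [h2, Matrix.one_apply_ne hji.symm, Matrix.one_apply_eq] at h1
    simpa using h1
  have hdiag : ∀ i j, i ≠ j → h i i * h j j = 1 := by
    intro i j hij
    have := hall i j i j
    rw [hoff i j hij, Matrix.one_apply_eq, Matrix.one_apply_eq, Matrix.one_apply_ne hij] at this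
    simpa using this
  ext i k
  by_cases hik : i = k
  · subst hik
    obtain ⟨j, l, hij, hil, hjl⟩ : ∃ j l : Fin 6, i ≠ j ∧ i ≠ l ∧ j ≠ l := by revert i; decide
    rw [Matrix.one_apply_eq]
    refine four_sq _ ?_
    calc h i i * h i i = h i i * h i i * (h j j * h l l) := by rw [hdiag j l hjl, mul_one]
      _ = (h i i * h j j) * (h i i * h l l) := by ring
      _ = 1 := by rw [hdiag i j hij, hdiag i l hil, one_mul]
  · rw [hoff i k hik, Matrix.one_apply_ne hik]

/-- root elements of the six-dimensional group -/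
def u6 (r : Fin 12) (t : Four) : GL (Fin 6) Four :=
  ⟨x6 r t, x6 r t, (rootOK_all r t).2.2, (rootOK_all r t).2.2⟩

/-- the paired root element -/
noncomputable def pgen (r : Fin 12) (t : Four) : GL (Fin 6) Four × GL chevG2.Idx Four :=
  (u6 r t, goodG2.xu (rG r) t)

/-- the group acting on both modules -/
noncomputable def Pairs : Subgroup (GL (Fin 6) Four × GL chevG2.Idx Four) :=
  Subgroup.closure (Set.range fun p : Fin 12 × Four => pgen p.1 p.2)

/-- the intertwining pairs -/
def Compat : Subgroup (GL (Fin 6) Four × GL chevG2.Idx Four) where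
  carrier := {p | w2 p.1.val * emb = emb * p.2.val ∧ (w2 p.1.val).mulVec wvec = wvec}
  one_mem' := by simp [w2_one]
  mul_mem' := fun {a b} ha hb => by
    simp only [Set.mem_setOf_eq, Prod.fst_mul, Prod.snd_mul, Units.val_mul, w2_mul] at ha hb ⊢
    exact ⟨by rw [Matrix.mul_assoc, hb.1, ← Matrix.mul_assoc, ha.1, Matrix.mul_assoc],
      by rw [← Matrix.mulVec_mulVec, hb.2, ha.2]⟩
  inv_mem' := fun {a} ha => by
    simp only [Set.mem_setOf_eq, Prod.fst_inv, Prod.snd_inv] at ha ⊢
    have e : w2 a.1⁻¹.val * w2 a.1.val = 1 := by rw [← w2_mul, ← Units.val_mul, inv_mul_cancel, Units.val_one, w2_one]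
    refine ⟨?_, by conv_lhs => rw [← ha.2, Matrix.mulVec_mulVec, e, Matrix.one_mulVec]⟩
    calc w2 a.1⁻¹.val * emb = w2 a.1⁻¹.val * (emb * a.2.val) * a.2⁻¹.val := by
          rw [Matrix.mul_assoc, Matrix.mul_assoc, ← Units.val_mul, mul_inv_cancel, Units.val_one, Matrix.mul_one]
      _ = emb * a.2⁻¹.val := by rw [← ha.1, ← Matrix.mul_assoc, e, Matrix.one_mul]

theorem pairs_le : Pairs ≤ Compat := by
  refine (Subgroup.closure_le _).2 ?_
  rintro _ ⟨⟨r, t⟩, rfl⟩
  exact ⟨(rootOK_all r t).1, (rootOK_all r t).2.1⟩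

theorem pairs_ker {p : GL (Fin 6) Four × GL chevG2.Idx Four} (hp : p ∈ Pairs) (h2 : p.2 = 1) : p = 1 := by
  obtain ⟨h1, hw⟩ := pairs_le hp
  rw [h2, Units.val_one, Matrix.mul_one] at h1
  have hfull : w2 p.1.val * full = full := by
    ext a c
    have hcol : ∀ (g : Fin 15 → Four), (∀ e, g e = full e c) → (w2 p.1.val).mulVec g a = g a →
        (w2 p.1.val * full) a c = full a c := by
      intro g hg hga
      rw [Matrix.mul_apply, ← hg a, ← hga]
      simp only [Matrix.mulVec, dotProduct]
      exact Finset.sum_congr rfl fun e _ => by rw [hg e]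
    by_cases hc : c.val = 14
    · exact hcol wvec (fun e => by simp [full, hc]) (congrFun hw a)
    · obtain ⟨c', hc'⟩ := (pos_cases c).resolve_left hc
      exact hcol (fun e => emb e c') (fun e => by simp [full, emb, hc, hc']) (congrFun (congrFun h1 a) c')
  have hw1 : w2 p.1.val = 1 := by
    have h := congrArg (· * fullInv) hfull
    simp only [Matrix.mul_assoc, mul_eq_one_comm.1 fullInv_mul, Matrix.mul_one] at h
    exact h
  exact Prod.ext (Units.ext (eq_one_of_w2 (h' := p.1⁻¹.val)
    (by rw [← Units.val_mul, mul_inv_cancel, Units.val_one]) hw1)) h2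

theorem pairs_image : Pairs.map (MonoidHom.snd (GL (Fin 6) Four) (GL chevG2.Idx Four)) = chevG2.group Four := by
  rw [Pairs, MonoidHom.map_closure, goodG2.group_eq]
  congr 1
  ext g
  constructor
  · rintro ⟨_, ⟨⟨r, t⟩, rfl⟩, rfl⟩
    exact ⟨rG r, t, rfl⟩
  · rintro ⟨r, t, rfl⟩
    exact ⟨_, ⟨(⟨r.val, r.isLt⟩, t), rfl⟩, rfl⟩

/-- `G₂(4)` with its six-dimensional action. -/
noncomputable def pairsEquiv : Pairs ≃* ↥(chevG2.group Four) :=
  (MulEquiv.ofBijective ((MonoidHom.snd (GL (Fin 6) Four) (GL chevG2.Idx Four)).subgroupMap Pairs)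
    ⟨(injective_iff_map_eq_one _).2 fun p hp => Subtype.ext (pairs_ker p.2 (congrArg Subtype.val hp)),
      MonoidHom.subgroupMap_surjective _ _⟩).trans (MulEquiv.subgroupCongr pairs_image)

theorem card_pairs : Nat.card Pairs = 2 ^ 12 * 3 ^ 3 * 5 ^ 2 * 7 * 13 := by
  rw [Nat.card_congr pairsEquiv.toEquiv, Cfsg.Agent.S1059.result Four.card_four]
  norm_num

/-- the module `k` times -/
abbrev Mods (k : ℕ) : Type := Fin k → Fin 6 → Four

/-- the action of a pair -/
noncomputable def actHom (k : ℕ) : Pairs →* MulAut (Multiplicative (Mods k)) where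
  toFun g := AddEquiv.toMultiplicative
    { toFun := fun v j => g.1.1.val.mulVec (v j)
      invFun := fun v j => g.1.1⁻¹.val.mulVec (v j)
      left_inv := fun v => funext fun j => by
        simp only [Matrix.mulVec_mulVec, ← Units.val_mul, inv_mul_cancel, Units.val_one, Matrix.one_mulVec]
      right_inv := fun v => funext fun j => by
        simp only [Matrix.mulVec_mulVec, ← Units.val_mul, mul_inv_cancel, Units.val_one, Matrix.one_mulVec]
      map_add' := fun v w => funext fun j => Matrix.mulVec_add _ _ _ }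
  map_one' := by
    refine MulEquiv.ext fun v => Multiplicative.toAdd.injective (funext fun j => ?_)
    exact Matrix.one_mulVec (Multiplicative.toAdd v j)
  map_mul' := fun g h => by
    refine MulEquiv.ext fun v => Multiplicative.toAdd.injective (funext fun j => ?_)
    show (g * h).1.1.val.mulVec _ = g.1.1.val.mulVec (h.1.1.val.mulVec _)
    rw [Matrix.mulVec_mulVec]
    rfl

/-- the split extension -/
abbrev Ext (k : ℕ) : Type := Multiplicative (Mods k) ⋊[actHom k] Pairs

theorem add_self_zero {k : ℕ} (v : Mods k) : v + v = 0 := by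
  have h : ∀ x : Four, x + x = 0 := by decide
  funext j i
  exact h _

theorem card_ext (k : ℕ) : Nat.card (Ext k) = 4 ^ (6 * k) * (2 ^ 12 * 3 ^ 3 * 5 ^ 2 * 7 * 13) := by
  rw [SemidirectProduct.card, card_pairs, Nat.card_congr Multiplicative.toAdd, Nat.card_fun,
    Nat.card_fun, Nat.card_fin, Nat.card_fin, Nat.card_eq_fintype_card (α := Four), Four.card_four, pow_mul]

theorem finite_ext (k : ℕ) : Finite (Ext k) :=
  Nat.finite_of_card_ne_zero (by rw [card_ext]; positivity)

/-- the element of `Pairs` given by a word -/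
noncomputable def wordElt (l : List (Fin 12 × Four)) : Pairs :=
  (l.map fun p => (⟨pgen p.1 p.2, Subgroup.subset_closure ⟨p, rfl⟩⟩ : Pairs)).prod

theorem wordElt_val (l : List (Fin 12 × Four)) : (wordElt l).1.1.val = wordMat l := by
  induction l with
  | nil => rfl
  | cons a l ih =>
    simp only [wordElt, wordMat, List.map_cons, List.prod_cons] at ih ⊢
    rw [← ih]
    rfl

theorem eq_one_iff_val {g : Pairs} : g = 1 ↔ g.1.1.val = 1 := by
  constructor
  · rintro rfl; rfl
  · intro h
    obtain ⟨⟨a, b⟩, hg⟩ := g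
    obtain ⟨h1, -⟩ := pairs_le hg
    have ha : a = 1 := Units.ext h
    subst ha
    refine Subtype.ext (Prod.ext rfl ?_)
    have hb : (Pairs.map (MonoidHom.snd _ _)) = chevG2.group Four := pairs_image
    simp only [Units.val_one, w2_one, Matrix.one_mul] at h1
    have hfull : ∀ c c' : chevG2.Idx, (b.val : Matrix chevG2.Idx chevG2.Idx Four) c c' = if c = c' then 1 else 0 := by
      intro c c'
      have e := congrArg (fun M => (fullInv * M : Matrix (Fin 15) chevG2.Idx Four)) h1
      have hlt : ∀ c : chevG2.Idx, pos chevG2 c < 15 := by decide +kernel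
      have he : fullInv * emb = (Matrix.of fun (i : Fin 15) (c : chevG2.Idx) => if i.val = pos chevG2 c then 1 else 0) := by
        decide +kernel
      simp only [← Matrix.mul_assoc, he] at e
      have := congrFun (congrFun e ⟨pos chevG2 c, hlt c⟩) c'
      have hposinj : ∀ a b : chevG2.Idx, pos chevG2 a = pos chevG2 b → a = b := by decide +kernel
      rw [Matrix.mul_apply, Finset.sum_eq_single c] at this
      · simp only [Matrix.of_apply, if_true, one_mul] at this
        rw [← this]
        by_cases hcc : c = c'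
        · simp [hcc]
        · rw [if_neg hcc, if_neg fun h => hcc (hposinj _ _ h)]
      · intro d _ hd
        simp only [Matrix.of_apply]
        rw [if_neg fun h => hd (hposinj _ _ h.symm), zero_mul]
      · exact fun h => absurd (Finset.mem_univ c) h
    exact Units.ext (Matrix.ext fun c c' => (hfull c c').trans Matrix.one_apply.symm)

theorem pow_val (g : Pairs) (n : ℕ) : (g ^ n).1.1.val = g.1.1.val ^ n := by
  induction n with
  | zero => rfl
  | succ n ih => rw [pow_succ, pow_succ, ← ih]; rfl

theorem exists_order_six : ∃ g : Pairs, orderOf g = 6 := by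
  obtain ⟨h1, h2, h3⟩ := word6_ok
  refine ⟨wordElt word6, (orderOf_eq_iff (by norm_num)).2 ⟨?_, fun m hm hm0 e => ?_⟩⟩
  · rw [eq_one_iff_val, pow_val, wordElt_val, h1]
  · have hd := orderOf_dvd_of_pow_eq_one e
    have h6 : orderOf (wordElt word6) ∣ 6 :=
      orderOf_dvd_of_pow_eq_one (by rw [eq_one_iff_val, pow_val, wordElt_val, h1])
    have hlt : orderOf (wordElt word6) ≤ m := Nat.le_of_dvd hm0 hd
    have hne2 : ¬ orderOf (wordElt word6) ∣ 2 := fun h => h2 (by
      rw [← wordElt_val, ← pow_val, ← eq_one_iff_val]; exact orderOf_dvd_iff_pow_eq_one.1 h)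
    have hne3 : ¬ orderOf (wordElt word6) ∣ 3 := fun h => h3 (by
      rw [← wordElt_val, ← pow_val, ← eq_one_iff_val]; exact orderOf_dvd_iff_pow_eq_one.1 h)
    have hle : orderOf (wordElt word6) < 6 := lt_of_le_of_lt hlt hm
    interval_cases orderOf (wordElt word6) <;> omega

theorem exists_order_ten : ∃ g : Pairs, orderOf g = 10 := by
  obtain ⟨h1, h2, h3⟩ := word10_ok
  refine ⟨wordElt word10, (orderOf_eq_iff (by norm_num)).2 ⟨?_, fun m hm hm0 e => ?_⟩⟩
  · rw [eq_one_iff_val, pow_val, wordElt_val, h1]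
  · have hd := orderOf_dvd_of_pow_eq_one e
    have h6 : orderOf (wordElt word10) ∣ 10 :=
      orderOf_dvd_of_pow_eq_one (by rw [eq_one_iff_val, pow_val, wordElt_val, h1])
    have hlt : orderOf (wordElt word10) ≤ m := Nat.le_of_dvd hm0 hd
    have hne2 : ¬ orderOf (wordElt word10) ∣ 2 := fun h => h2 (by
      rw [← wordElt_val, ← pow_val, ← eq_one_iff_val]; exact orderOf_dvd_iff_pow_eq_one.1 h)
    have hne3 : ¬ orderOf (wordElt word10) ∣ 5 := fun h => h3 (by
      rw [← wordElt_val, ← pow_val, ← eq_one_iff_val]; exact orderOf_dvd_iff_pow_eq_one.1 h)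
    have hle : orderOf (wordElt word10) < 10 := lt_of_le_of_lt hlt hm
    interval_cases orderOf (wordElt word10) <;> omega

/-- elements of order 7 and 13 fix no non-zero vector -/
theorem fpf {q : ℕ} (hq : q = 7 ∨ q = 13) {g : Pairs} (hg : orderOf g = q) (v : Fin 6 → Four)
    (hv : g.1.1.val.mulVec v = v) : v = 0 := by
  obtain ⟨w, hw1, hw0⟩ : ∃ w : List (Fin 12 × Four), wordMat w ^ q = 1 ∧
      (∑ i ∈ Finset.range q, wordMat w ^ i) = 0 := by
    rcases hq with rfl | rfl
    · exact ⟨word7, word7_ok⟩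
    · exact ⟨word13, word13_ok⟩
  haveI : Fact q.Prime := ⟨by rcases hq with rfl | rfl <;> norm_num⟩
  have hqodd : ∀ x : Four, (q : Four) * x = x := by
    rcases hq with rfl | rfl <;> decide +kernel
  set x := wordElt w
  have hxq : x ^ q = 1 := by rw [eq_one_iff_val, pow_val, wordElt_val, hw1]
  have hx : orderOf x = q := orderOf_eq_prime hxq fun e => by
    have h1 : wordMat w = 1 := by rw [← wordElt_val]; exact eq_one_iff_val.1 e
    simp only [h1, one_pow, Finset.sum_const, Finset.card_range, nsmul_eq_mul, mul_one] at hw0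
    rcases hq with rfl | rfl
    · exact absurd hw0 (by decide +kernel)
    · exact absurd hw0 (by decide +kernel)
  haveI : Finite Pairs := Nat.finite_of_card_ne_zero (by rw [card_pairs]; norm_num)
  have hfac : q ^ (Nat.card Pairs).factorization q = q := by
    have h1 : q ∣ Nat.card Pairs ∧ ¬ q ^ 2 ∣ Nat.card Pairs := by
      rw [card_pairs]; rcases hq with rfl | rfl <;> norm_num
    have h2 := (Fact.out : q.Prime).factorization_pos_of_dvd (Nat.card_pos.ne') h1.1
    have h3 : ¬ 2 ≤ (Nat.card Pairs).factorization q := fun h =>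
      h1.2 (((Fact.out : q.Prime).pow_dvd_iff_le_factorization Nat.card_pos.ne').2 h)
    rw [show (Nat.card Pairs).factorization q = 1 by omega, pow_one]
  let P : Sylow q Pairs := Sylow.ofCard (Subgroup.zpowers x) (by rw [Nat.card_zpowers, hx, hfac])
  let Q : Sylow q Pairs := Sylow.ofCard (Subgroup.zpowers g) (by rw [Nat.card_zpowers, hg, hfac])
  obtain ⟨c, hc⟩ := MulAction.exists_smul_eq Pairs Q P
  have hxm : x ∈ (c • Q : Sylow q Pairs).toSubgroup := by
    rw [hc]; exact Subgroup.mem_zpowers x
  rw [Sylow.smul_def, Sylow.pointwise_smul_def, Subgroup.mem_smul_pointwise_iff_exists] at hxm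
  obtain ⟨y, hy, hyx⟩ := hxm
  obtain ⟨n, hn⟩ := (Submonoid.mem_powers_iff y g).1
    ((isOfFinOrder_of_finite g).mem_powers_iff_mem_zpowers.2 hy)
  have hgn : (g ^ n).1.1.val.mulVec v = v := by
    rw [pow_val]
    clear hn
    induction n with
    | zero => simp
    | succ n ih => rw [pow_succ, ← Matrix.mulVec_mulVec, hv, ih]
  set v' := c.1.1.val.mulVec v
  have hx' : (wordMat w).mulVec v' = v' := by
    have e : x = c * g ^ n * c⁻¹ := by rw [hn, ← hyx]; rfl
    rw [← wordElt_val, show wordElt w = x from rfl, e]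
    show (c.1.1.val * (g ^ n).1.1.val * c.1.1⁻¹.val).mulVec (c.1.1.val.mulVec v) = _
    rw [Matrix.mulVec_mulVec, Matrix.mul_assoc, Units.inv_mul,
      Matrix.mul_one, ← Matrix.mulVec_mulVec, hgn]
  have h0 : (∑ i ∈ Finset.range q, wordMat w ^ i).mulVec v' = 0 := by rw [hw0, Matrix.zero_mulVec]
  have hsum : ∀ i, (wordMat w ^ i).mulVec v' = v' := by
    intro i
    induction i with
    | zero => simp
    | succ i ih => rw [pow_succ, ← Matrix.mulVec_mulVec, hx', ih]
  rw [Matrix.sum_mulVec, Finset.sum_congr rfl fun i _ => hsum i, Finset.sum_const, Finset.card_range] at h0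
  have hv' : v' = 0 := funext fun i => by
    have := congrFun h0 i
    rwa [Pi.smul_apply, nsmul_eq_mul, hqodd] at this
  have := congrArg (c.1.1⁻¹.val).mulVec hv'
  rwa [Matrix.mulVec_mulVec, ← Units.val_mul, inv_mul_cancel, Units.val_one, Matrix.one_mulVec,
    Matrix.mulVec_zero] at this

/-- elements with order a product of two primes come from `G₂(4)` -/
theorem exists_edge (k : ℕ) {p q : ℕ} (hp : p.Prime) (hq : q.Prime) (hpq : p ≠ q) {h : Ext k}
    (hh : orderOf h = p * q) : ∃ g : Pairs, orderOf g = p * q := by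
  haveI := finite_ext k
  haveI : Finite Pairs := Nat.finite_of_card_ne_zero (by rw [card_pairs]; norm_num)
  set g : Pairs := SemidirectProduct.rightHom h with hg
  have hdvd : orderOf g ∣ p * q := hh ▸ orderOf_map_dvd _ h
  by_cases he : orderOf g = p * q
  · exact ⟨g, he⟩
  set m := orderOf g
  have hker : SemidirectProduct.rightHom (h ^ m) = 1 := by rw [map_pow, ← hg, pow_orderOf_eq_one]
  obtain ⟨v, hv⟩ : h ^ m ∈ (SemidirectProduct.inl : Multiplicative (Mods k) →* Ext k).range := by
    rw [SemidirectProduct.range_inl_eq_ker_rightHom]; exact hker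
  have hv2 : (h ^ m) ^ 2 = 1 := by
    rw [← hv, ← map_pow, pow_two, show v * v = 1 from add_self_zero (Multiplicative.toAdd v), map_one]
  have h2m : p * q ∣ m * 2 := hh ▸ orderOf_dvd_of_pow_eq_one (by rw [pow_mul, hv2])
  have hmne : h ^ m ≠ 1 := fun e => he (Nat.dvd_antisymm hdvd (hh ▸ orderOf_dvd_of_pow_eq_one e))
  obtain ⟨t, ht⟩ := hdvd
  have hm0 : 0 < m := orderOf_pos g
  have ht2 : t = 2 := by
    have h1 : m * t ∣ m * 2 := ht ▸ h2m
    have h2 := Nat.le_of_dvd two_pos (Nat.dvd_of_mul_dvd_mul_left hm0 h1)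
    rcases t with _ | _ | _ | t
    · rw [mul_zero] at ht; exact absurd ht (Nat.mul_ne_zero hp.ne_zero hq.ne_zero)
    · exact absurd (by rw [ht, zero_add, mul_one]) he
    · rfl
    · omega
  subst ht2
  obtain ⟨r, hr, hr2, hm⟩ : ∃ r, r.Prime ∧ p * q = 2 * r ∧ m = r := by
    rcases (Nat.Prime.dvd_mul Nat.prime_two).1 (Dvd.intro_left m ht.symm) with h | h
    · rw [Nat.prime_dvd_prime_iff_eq Nat.prime_two hp] at h
      subst h
      exact ⟨q, hq, rfl, by omega⟩
    · rw [Nat.prime_dvd_prime_iff_eq Nat.prime_two hq] at h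
      subst h
      exact ⟨p, hp, mul_comm _ _, by omega⟩
  have hr2' : r ≠ 2 := by
    rintro rfl
    rcases (Nat.Prime.dvd_mul Nat.prime_two).1 ⟨2, hr2⟩ with h | h <;>
    · rw [Nat.prime_dvd_prime_iff_eq Nat.prime_two (by assumption)] at h
      subst h
      omega
  have hrG : r ∈ ({3, 5, 7, 13} : Finset ℕ) := by
    have : r ∣ Nat.card Pairs := hm ▸ orderOf_dvd_natCard g
    rw [card_pairs] at this
    have h13 := (Nat.prime_dvd_prime_iff_eq hr (by norm_num : Nat.Prime 13))
    have h7 := (Nat.prime_dvd_prime_iff_eq hr (by norm_num : Nat.Prime 7))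
    have h5 := (Nat.prime_dvd_prime_iff_eq hr (by norm_num : Nat.Prime 5))
    have h3 := (Nat.prime_dvd_prime_iff_eq hr Nat.prime_three)
    have h2 := (Nat.prime_dvd_prime_iff_eq hr Nat.prime_two)
    rcases hr.dvd_mul.1 this with h | h
    · rcases hr.dvd_mul.1 h with h | h
      · rcases hr.dvd_mul.1 h with h | h
        · rcases hr.dvd_mul.1 h with h | h
          · exact absurd (h2.1 (hr.dvd_of_dvd_pow h)) hr2'
          · simp [h3.1 (hr.dvd_of_dvd_pow h)]
        · simp [h5.1 (hr.dvd_of_dvd_pow h)]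
      · simp [h7.1 h]
    · simp [h13.1 h]
  rw [hr2]
  simp only [Finset.mem_insert, Finset.mem_singleton] at hrG
  rcases hrG with rfl | rfl | rfl | rfl
  · exact exists_order_six
  · exact exists_order_ten
  all_goals
    exfalso
    refine hmne ?_
    have hfix : (actHom k g) v = v := by
      refine SemidirectProduct.inl_injective (φ := actHom k) ?_
      have hd : h = SemidirectProduct.inl h.left * SemidirectProduct.inr g :=
        (SemidirectProduct.inl_left_mul_inr_right h).symm
      have hc : h * SemidirectProduct.inl v = SemidirectProduct.inl v * h := by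
        rw [hv]; exact ((Commute.refl h).pow_right _).eq
      rw [SemidirectProduct.inl_aut]
      have hl : SemidirectProduct.inl v * SemidirectProduct.inl h.left =
          (SemidirectProduct.inl h.left * SemidirectProduct.inl v : Ext k) := by
        rw [← map_mul, ← map_mul, mul_comm]
      rw [hd] at hc
      calc SemidirectProduct.inr g * SemidirectProduct.inl v * SemidirectProduct.inr g⁻¹
          = (SemidirectProduct.inl h.left)⁻¹ * (SemidirectProduct.inl h.left * SemidirectProduct.inr g * SemidirectProduct.inl v) * (SemidirectProduct.inr g)⁻¹ := by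
            rw [map_inv]; group
        _ = (SemidirectProduct.inl v : Ext k) := by rw [hc, ← mul_assoc (SemidirectProduct.inl v), hl]; group
    have hv0 : v = 1 := by
      refine Multiplicative.toAdd.injective (funext fun j => ?_)
      refine fpf (by tauto) hm _ ?_
      exact congrFun (congrArg Multiplicative.toAdd hfix) j
    rw [← hv, hv0, map_one]

theorem main {F : Type*} [Field F] [Fintype F] (hF : Fintype.card F = 4) (N : ℕ) :
    ∃ (H : Type) (_ : Group H) (_ : Finite H), N < Nat.card H ∧
      ((∀ p : ℕ, p.Prime → (p ∣ Nat.card ↥(chevG2.group F) ↔ p ∣ Nat.card H)) ∧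
       (∀ p q : ℕ, p.Prime → q.Prime → p ≠ q →
        ((∃ g : ↥(chevG2.group F), orderOf g = p * q) ↔ (∃ g : H, orderOf g = p * q)))) := by
  haveI := finite_ext (N + 1)
  let ι : Four ≃+* F := FiniteField.ringEquivOfCardEq (Four.card_four.trans hF.symm)
  have hmap : (chevG2.group Four).map (fmap chevG2 ι.toRingHom) = chevG2.group F := by
    rw [goodG2.group_eq, goodG2.group_eq, MonoidHom.map_closure]
    congr 1
    ext g
    constructor
    · rintro ⟨_, ⟨r, t, rfl⟩, rfl⟩
      exact ⟨r, ι t, goodG2.fmap_xu _ r t⟩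
    · rintro ⟨r, t, rfl⟩
      exact ⟨_, ⟨r, ι.symm t, rfl⟩, by rw [goodG2.fmap_xu]; simp⟩
  let e : Pairs ≃* ↥(chevG2.group F) := pairsEquiv.trans
    ((Subgroup.equivMapOfInjective _ _ (fmap_injective ι.toRingHom)).trans (MulEquiv.subgroupCongr hmap))
  refine ⟨Ext (N + 1), inferInstance, inferInstance, ?_, fun p hp => ?_, fun p q hp hq hpq => ⟨?_, ?_⟩⟩
  · rw [card_ext]
    have h1 : N < 4 ^ (6 * (N + 1)) := lt_of_lt_of_le (Nat.lt_pow_self (by norm_num : 1 < 4))
      (Nat.pow_le_pow_right (by norm_num) (by omega))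
    exact lt_of_lt_of_le h1 (Nat.le_mul_of_pos_right _ (by norm_num))
  · rw [← Nat.card_congr e.toEquiv, card_pairs, card_ext]
    refine ⟨fun h => h.mul_left _, fun h => (hp.dvd_mul.1 h).elim (fun h' => ?_) id⟩
    have := hp.dvd_of_dvd_pow h'
    have h2 : p ∣ 2 := hp.dvd_of_dvd_pow (show p ∣ 2 ^ 2 by simpa using this)
    exact h2.trans (by norm_num)
  · rintro ⟨g, hg⟩
    refine ⟨SemidirectProduct.inr (e.symm g), ?_⟩
    rw [orderOf_injective _ SemidirectProduct.inr_injective, ← hg, MulEquiv.orderOf_eq]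
  · rintro ⟨h, hh⟩
    obtain ⟨g, hg⟩ := exists_edge (N + 1) hp hq hpq hh
    exact ⟨e g, by rw [MulEquiv.orderOf_eq, hg]⟩

end CfsgLib.Char.GTwoFour
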